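import Cfsg.Agent.H81.SU6.Ext.Centres
import Cfsg.Agent.H41.UExt.Main

/-!
# The normaliser of a cubic extension field is maximal in SU_6
-/

set_option autoImplicit false
set_option linter.unusedSectionVars false
set_option linter.unusedSimpArgs false
set_option linter.style.haveILetI false

namespace H81.SU6

open Matrix Cfsg Cfsg.Geo H50 H45 H41 H81.SU6.Ext

variable {F : Type*} [Field F] [Fintype F] {q : ℕ}

set_option maxHeartbeats 1600000 in
theorem ext_max (hF : Fintype.card F = q ^ 2) (hq : 3 ≤ q) (K : Subalgebra F (Matrix (Fin 6) (Fin 6) F))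
    (hK : IsFieldSubalgebra 3 K) (hac : IsAdjointClosedFor (hermForm 6 F q) K) :
    IsMaximalIn (UDec.SUGL 6 F q) (subalgebraNormalizer K ⊓ UDec.SUGL 6 F q) := by
  classical
  have hKF : IsField K := by
    refine ⟨⟨0, 1, zero_ne_one⟩, fun a b => Subtype.ext (hK.comm _ a.2 _ b.2), fun {a} ha => ?_⟩
    obtain ⟨y, hy, hxy⟩ := hK.inv _ a.2 fun e => ha (Subtype.ext e)
    exact ⟨⟨y, hy⟩, Subtype.ext hxy⟩
  letI : Field K := hKF.toField
  haveI : Fintype K := Fintype.ofFinite _
  haveI : FiniteDimensional F K := Module.Finite.of_finite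
  have hsmul : ∀ (c : K) (x : Fin 6 → F), c • x = (c : Matrix (Fin 6) (Fin 6) F) *ᵥ x := fun c x => rfl
  haveI : IsScalarTower F K (Fin 6 → F) := ⟨fun t c x => by
    rw [hsmul, hsmul, K.coe_smul, Matrix.smul_mulVec]⟩
  haveI : Module.Finite K (Fin 6 → F) := Module.Finite.of_finite
  have hr : Module.finrank F K = 3 := hK.finrank_eq
  have hm : Module.finrank K (Fin 6 → F) = 2 := by
    have := Module.finrank_mul_finrank F K (Fin 6 → F)
    rw [hr, Module.finrank_fin_fun] at this
    omega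
  have hE : Fintype.card K = (q ^ 3) ^ 2 := by
    rw [Module.card_eq_pow_finrank (K := F) (V := K), hr, hF]; ring
  -- the adjoint automorphism
  have hext : ∀ {c c' : K}, (∀ u v : Fin 6 → F, hermForm 6 F q u (c • v) = hermForm 6 F q u (c' • v)) → c = c' := fun hcc =>
    Subtype.ext (Matrix.ext_of_mulVec_single fun i => sub_eq_zero.1 (eq_zero_of_h_right hF fun u => by
      rw [h_sub_right hF, sub_eq_zero]; exact hcc u _))
  choose st hstK hst using hac
  let star : K → K := fun c => ⟨st c.1 c.2, hstK c.1 c.2⟩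
  have hstar : ∀ (c : K) u v, hermForm 6 F q (c • u) v = hermForm 6 F q u (star c • v) := fun c u v => hst c.1 c.2 u v
  let σ : K →+* K :=
    { toFun := star
      map_one' := hext fun u v => by rw [← hstar, one_smul, one_smul]
      map_mul' := fun a b => hext fun u v => by
        rw [← hstar, mul_comm a b, mul_smul b a u, hstar, hstar, ← mul_smul]
      map_zero' := hext fun u v => by rw [← hstar, zero_smul, h_zero_left, zero_smul, h_zero_right hF]
      map_add' := fun a b => hext fun u v => by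
        rw [← hstar, add_smul, h_add_left, hstar, hstar, ← h_add_right hF, ← add_smul] }
  have hσ : ∀ (c : K) u v, hermForm 6 F q (c • u) v = hermForm 6 F q u (σ c • v) := hstar
  have hσσ : ∀ c, σ (σ c) = c := fun c => hext fun u v => by
    rw [← hσ, h_symm hF v (σ c • u), ← hσ, ← h_symm hF]
  have hσa : ∀ t : F, σ (algebraMap F K t) = algebraMap F K (t ^ q) := fun t => hext fun u v => by
    rw [← hσ, algebraMap_smul, algebraMap_smul, h_smul_left, h_smul_right hF, pow_q_pow_q hF]
  have hconj : ∀ c : K, σ c = c ^ q ^ 3 := H41.UExt.eq_pow_cube hF hE hr σ hσσ hσa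
  -- the trace
  set τ : K →ₗ[F] F := Algebra.trace F K with hτdef
  have htr : ∀ x : K, algebraMap F K (τ x) = x + x ^ q ^ 2 + x ^ q ^ 4 := fun x => by
    rw [hτdef, FiniteField.algebraMap_trace_eq_sum_pow, hr, Nat.card_eq_fintype_card, hF]
    simp [Finset.sum_range_succ, ← pow_mul]
  have hnz : τ ≠ 0 := fun e => by
    obtain ⟨x, hx⟩ := Algebra.trace_surjective F K 1
    rw [← hτdef, e, LinearMap.zero_apply] at hx
    exact zero_ne_one hx
  obtain ⟨text, tdual⟩ := H41.UExt.dual_trace hnz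
  have tmul : ∀ (t : F) (x : K), τ (algebraMap F K t * x) = t * τ x := fun t x => by
    rw [← Algebra.smul_def, map_smul, smul_eq_mul]
  have tconj : ∀ x : K, τ (x ^ q ^ 3) = τ x ^ q := by
    intro x
    apply (algebraMap F K).injective
    rw [← hσa (τ x), htr, htr, map_add, map_add, map_pow, map_pow, hconj, pow_right_comm x, pow_right_comm x (q ^ 3)]
  -- the form over the extension
  have key : ∀ x y : Fin 6 → F, ∃ a : K, ∀ c : K, τ (c * a) = hermForm 6 F q (c • x) y := fun x y => tdual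
    { toFun := fun c => hermForm 6 F q (c • x) y
      map_add' := fun a b => by rw [add_smul, h_add_left]
      map_smul' := fun t a => by rw [RingHom.id_apply, smul_assoc, h_smul_left, smul_eq_mul] }
  choose Φ hΦ using key
  have Φadd : ∀ x x' y, Φ (x + x') y = Φ x y + Φ x' y := fun x x' y => text fun c => by
    rw [mul_add, map_add, hΦ, hΦ, hΦ, smul_add, h_add_left]
  have Φsmul : ∀ (a : K) x y, Φ (a • x) y = a * Φ x y := fun a x y => text fun c => by
    rw [hΦ, ← mul_assoc, hΦ, mul_smul]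
  have Φsymm : ∀ x y, Φ y x = Φ x y ^ q ^ 3 := fun x y => text fun c => by
    have : c * Φ x y ^ q ^ 3 = (c ^ q ^ 3 * Φ x y) ^ q ^ 3 := by rw [mul_pow, pow_q_pow_q hE]
    rw [hΦ, this, tconj, hΦ, ← hconj, hσ]
    exact h_symm hF _ _
  have Φone : ∀ x y, τ (Φ x y) = hermForm 6 F q x y := fun x y => by
    have := hΦ x y 1
    rwa [one_mul, one_smul] at this
  have Φadd' : ∀ x y y', Φ x (y + y') = Φ x y + Φ x y' := fun x y y' => by
    rw [Φsymm, Φadd, add_pow_q hE, ← Φsymm, ← Φsymm]
  have Φsmul' : ∀ (a : K) x y, Φ x (a • y) = a ^ q ^ 3 * Φ x y := fun a x y => by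
    rw [Φsymm, Φsmul, mul_pow, ← Φsymm]
  have Φzero : ∀ y, Φ 0 y = 0 := fun y => by simpa using Φsmul 0 0 y
  have Φsum : ∀ {ι : Type} (s : Finset ι) (f : ι → Fin 6 → F) y, Φ (∑ i ∈ s, f i) y = ∑ i ∈ s, Φ (f i) y := by
    intro ι s f y
    induction s using Finset.induction with
    | empty => simp [Φzero]
    | insert i s hi ih => rw [Finset.sum_insert hi, Φadd, ih, Finset.sum_insert hi]
  have Φsum' : ∀ {ι : Type} (s : Finset ι) (f : ι → Fin 6 → F) x, Φ x (∑ i ∈ s, f i) = ∑ i ∈ s, Φ x (f i) := by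
    intro ι s f x
    rw [Φsymm, Φsum, sum_pow_q hE]
    exact Finset.sum_congr rfl fun i _ => (Φsymm _ _).symm
  -- hyperbolic coordinates
  obtain ⟨e, he0, hee⟩ : ∃ e : Fin 6 → F, e ≠ 0 ∧ Φ e e = 0 := by
    let B : Module.Basis (Fin 2) K (Fin 6 → F) := Module.finBasisOfFinrankEq K (Fin 6 → F) hm
    have hfix : ∀ x, Φ x x ^ q ^ 3 = Φ x x := fun x => (Φsymm x x).symm
    by_cases h00 : Φ (B 0) (B 0) = 0
    · exact ⟨B 0, B.ne_zero 0, h00⟩
    set a := Φ (B 0) (B 0) with ha
    set t := -(Φ (B 1) (B 0) / a) with ht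
    set w := B 1 + t • B 0 with hw
    have hwB : Φ w (B 0) = 0 := by
      rw [hw, Φadd, Φsmul, ht, neg_mul, div_mul_cancel₀ _ h00, add_neg_cancel]
    have hne : ∀ μ : K, w + μ • B 0 ≠ 0 := fun μ h => by
      have := Fintype.linearIndependent_iff.1 B.linearIndependent ![t + μ, 1] (by
        rw [Fin.sum_univ_two]
        simp only [Matrix.cons_val_zero, Matrix.cons_val_one]
        rw [← h, hw]; module) 1
      simp at this
    obtain ⟨μ, hμ⟩ := exists_norm_eq hE (c := -(Φ w w / a)) (by rw [neg_pow_q hE, div_pow, hfix, hfix])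
    rw [pow_succ] at hμ
    refine ⟨w + μ • B 0, hne μ, ?_⟩
    clear_value w
    rw [Φadd, Φadd', Φadd', Φsmul, Φsmul, Φsmul', Φsmul', hwB, Φsymm w (B 0), hwB, zero_pow (q_ne_zero hE), ← ha]
    field_simp at hμ
    linear_combination hμ
  obtain ⟨y₀, hy₀⟩ : ∃ y, Φ e y ≠ 0 := by
    by_contra hcon
    simp only [not_exists, not_not] at hcon
    exact he0 (eq_zero_of_h_left hF fun y => by rw [← Φone, hcon, map_zero])
  set y₁ := ((Φ e y₀)⁻¹) ^ q ^ 3 • y₀ with hy₁
  have hey : Φ e y₁ = 1 := by rw [hy₁, Φsmul', pow_q_pow_q hE, inv_mul_cancel₀ hy₀]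
  have hye : Φ y₁ e = 1 := by rw [Φsymm, hey, one_pow]
  clear_value y₁
  obtain ⟨t₁, ht₁⟩ := exists_trace_eq hE (c := -Φ y₁ y₁) (by rw [neg_pow_q hE, ← Φsymm])
  set f := y₁ + t₁ • e with hf
  have hef : Φ e f = 1 := by rw [hf, Φadd', Φsmul', hee, hey, mul_zero, add_zero]
  have hfe : Φ f e = 1 := by rw [Φsymm, hef, one_pow]
  have hff : Φ f f = 0 := by
    rw [hf, Φadd, Φadd', Φadd', Φsmul, Φsmul, Φsmul', Φsmul', hee, hey, hye]
    linear_combination ht₁
  let j : K × K →ₗ[K] (Fin 6 → F) :=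
    { toFun := fun x => x.1 • e + x.2 • f
      map_add' := fun x y => by simp only [Prod.fst_add, Prod.snd_add, add_smul]; abel
      map_smul' := fun c x => by
        simp only [Prod.smul_fst, Prod.smul_snd, smul_eq_mul, RingHom.id_apply, smul_add, mul_smul] }
  have hjφ : ∀ x y, Φ (j x) (j y) = pf q x y := fun x y => by
    show Φ (x.1 • e + x.2 • f) (y.1 • e + y.2 • f) = _
    rw [Φadd, Φadd', Φadd', Φsmul, Φsmul, Φsmul, Φsmul, Φsmul', Φsmul', Φsmul', Φsmul', hee, hef, hfe, hff, pf]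
    ring
  have hjinj : Function.Injective j := fun x y h => by
    have h1 := congrArg (fun u => Φ u (j (1, 0))) h
    have h2 := congrArg (fun u => Φ u (j (0, 1))) h
    simp [hjφ, pf, zero_pow (q_ne_zero hE)] at h1 h2
    exact Prod.ext h2 h1
  let ι : (Fin 6 → F) ≃ₗ[K] K × K := (LinearEquiv.ofBijective j ⟨hjinj,
    (LinearMap.injective_iff_surjective_of_finrank_eq_finrank
      (by rw [Module.finrank_prod, Module.finrank_self, hm])).1 hjinj⟩).symm
  have hιj : ∀ x, j (ι x) = x := fun x => LinearEquiv.apply_symm_apply (LinearEquiv.ofBijective j _) x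
  have hτι : ∀ x y, τ (pf q (ι x) (ι y)) = hermForm 6 F q x y := fun x y => by rw [← hjφ, hιj, hιj, Φone]
  have hιF : ∀ (t : F) x, ι (t • x) = t • ι x := fun t x => by
    rw [← algebraMap_smul K t x, map_smul, algebraMap_smul]
  let ιF : (Fin 6 → F) ≃ₗ[F] K × K := ι.restrictScalars F
  -- the normaliser
  have hnorm : ∀ g : GL (Fin 6) F, (∀ c : K, ∃ e : K, ∀ x, act g (c • x) = e • act g x) →
      g ∈ subalgebraNormalizer K := by
    intro g hg
    choose f hf using hg
    have hmat : ∀ c : K, (g : Matrix (Fin 6) (Fin 6) F) * c.1 = (f c).1 * (g : Matrix (Fin 6) (Fin 6) F) := fun c =>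
      Matrix.ext_iff_mulVec.2 fun w => by
        rw [← mulVec_mulVec, ← mulVec_mulVec]
        exact hf c w
    have hinj : Function.Injective f := fun a b e => by
      have h1 := hmat a
      rw [e, ← hmat b] at h1
      exact Subtype.ext ((Units.mul_right_inj g).1 h1)
    intro k
    constructor
    · intro hk
      rw [hmat ⟨k, hk⟩, mul_assoc, Units.mul_inv, mul_one]
      exact (f _).2
    · intro hk
      obtain ⟨c, hc⟩ := Finite.injective_iff_surjective.1 hinj ⟨_, hk⟩
      have h1 := hmat c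
      rw [hc] at h1
      simp only [mul_assoc, Units.inv_mul, mul_one] at h1
      rw [← (Units.mul_right_inj g).1 h1]
      exact c.2
  refine ⟨lt_of_le_of_ne inf_le_right fun heq => ?_, fun M hM hMS => ?_⟩
  · -- a transvection does not normalise
    obtain ⟨v, hv0, hv⟩ := exists_isotropic hF (n := 6) (by norm_num)
    obtain ⟨c, hc0, hc⟩ := exists_trace_zero_ne_zero hF
    have hT : utv v hv c ∈ UDec.SUGL 6 F q := by
      refine UDec.mem_SUGL.mpr ⟨?_, ?_⟩
      · exact (ut_isIso_isotropic hF hv hc : IsIso q (unitaryTransvection 6 q v c))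
      · show (unitaryTransvection 6 q v c).det = 1
        exact utv_det hv c
    have hN := (heq.ge hT).1
    obtain ⟨k, hk⟩ : ∃ k : K, ∀ t : F, k ≠ algebraMap F K t := by
      by_contra hcon
      simp only [not_exists, not_forall, not_not] at hcon
      have : Module.finrank F K ≤ 1 := finrank_le_one (1 : K) fun w => by
        obtain ⟨t, ht⟩ := hcon w
        exact ⟨t, by rw [ht, Algebra.smul_def, mul_one]⟩
      omega
    set g := utv v hv c with hgdef
    obtain ⟨k', hk'⟩ : ∃ k' : K, ∀ x, act g (k • x) = k' • act g x :=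
      ⟨⟨_, (hN k.1).1 k.2⟩, fun x => by
        show (g : Matrix (Fin 6) (Fin 6) F) *ᵥ ((k : Matrix (Fin 6) (Fin 6) F) *ᵥ x) = _ *ᵥ ((g : Matrix (Fin 6) (Fin 6) F) *ᵥ x)
        rw [mulVec_mulVec, mulVec_mulVec, mul_assoc, Units.inv_mul, mul_one]⟩
    -- a vector orthogonal to v and moved into the orthogonal by k
    let L : (Fin 6 → F) →ₗ[F] F × F := (hLeft 6 q v).prod
      { toFun := fun x => hermForm 6 F q (k • x) v
        map_add' := fun a b => by rw [smul_add, h_add_left]
        map_smul' := fun t a => by rw [smul_comm k t a, h_smul_left, RingHom.id_apply, smul_eq_mul] }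
    obtain ⟨x, hx, hx0⟩ := Submodule.exists_mem_ne_zero_of_ne_bot (LinearMap.ker_ne_bot_of_finrank_lt (f := L)
      (by rw [Module.finrank_prod, Module.finrank_self, Module.finrank_fin_fun]; norm_num))
    have hxv : hermForm 6 F q x v = 0 := congrArg Prod.fst hx
    have hkxv : hermForm 6 F q (k • x) v = 0 := congrArg Prod.snd hx
    have hkk : k' = k := by
      have h1 := hk' x
      rw [act_utv, act_utv, hxv, hkxv, mul_zero, zero_smul, add_zero, add_zero] at h1
      exact (smul_left_injective K hx0 h1).symm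
    obtain ⟨y, hy⟩ : ∃ y, hermForm 6 F q y v ≠ 0 := by
      by_contra hcon
      simp only [not_exists, not_not] at hcon
      exact hv0 (eq_zero_of_h_right hF hcon)
    have h1 := hk' y
    rw [hkk, act_utv, act_utv, smul_add, add_right_inj, smul_comm k (c * _) v, mul_smul, mul_smul,
      (IsUnit.mk0 c hc0).smul_left_cancel] at h1
    apply hk (hermForm 6 F q (k • y) v / hermForm 6 F q y v)
    apply smul_left_injective K hv0
    show k • v = algebraMap F K _ • v
    rw [algebraMap_smul, div_eq_inv_mul, mul_smul, h1, inv_smul_smul₀ hy]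
  by_cases hall : ∀ g ∈ M, g ∈ subalgebraNormalizer K
  · exact Or.inl (le_antisymm (fun g hg => ⟨hall g hg, hMS hg⟩) hM)
  right
  simp only [not_forall] at hall
  obtain ⟨g₀, hg₀, hg₀N⟩ := hall
  let Mf : ((K × K) →ₗ[F] (K × K)) → Prop := fun T => ∃ g ∈ M, ∀ x, T (ι x) = ι (act g x)
  have hnorm_det : ∀ x : K, algebraMap F K (Algebra.norm F x) = x * x ^ q ^ 2 * x ^ q ^ 4 := fun x => by
    rw [FiniteField.algebraMap_norm_eq_pow_sum, hr, Nat.card_eq_fintype_card, hF]
    simp [Finset.sum_range_succ, pow_add, ← pow_mul]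
  -- matrices of maps
  have lift : ∀ (T : K × K →ₗ[K] K × K), (∀ x y, pf q (T x) (T y) = pf q x y) →
      Algebra.norm F (LinearMap.det T) = 1 → Mf (T.restrictScalars F) := by
    intro T hT hdT
    let L : (Fin 6 → F) →ₗ[K] (Fin 6 → F) := ι.symm.toLinearMap ∘ₗ T ∘ₗ ι.toLinearMap
    have hL : ∀ x, ι (L x) = T (ι x) := fun x => ι.apply_symm_apply _
    have hd : LinearMap.det (L.restrictScalars F) = 1 := by
      rw [LinearMap.det_restrictScalars, show LinearMap.det L = LinearMap.det T from LinearMap.det_conj T ι.symm, hdT]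
    have hdm : (LinearMap.toMatrix' (L.restrictScalars F)).det = 1 := by rw [LinearMap.det_toMatrix']; exact hd
    set g := Matrix.GeneralLinearGroup.mkOfDetNeZero (LinearMap.toMatrix' (L.restrictScalars F))
      (by rw [hdm]; exact one_ne_zero)
    have hgx : ∀ x, act g x = L x := fun x => LinearMap.toMatrix'_mulVec (L.restrictScalars F) x
    have hgS : g ∈ UDec.SUGL 6 F q := UDec.mem_SUGL.mpr ⟨fun x y => by
      show hermForm 6 F q (act g x) (act g y) = hermForm 6 F q x y
      rw [hgx, hgx, ← hτι, hL, hL, hT, hτι], hdm⟩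
    refine ⟨g, hM ⟨hnorm g fun c => ⟨c, fun x => ?_⟩, hgS⟩, fun x => by rw [hgx, hL]; rfl⟩
    rw [hgx, hgx, map_smul]
  have det2 : ∀ (T : K × K →ₗ[K] K × K), LinearMap.det T = (T (1, 0)).1 * (T (0, 1)).2 - (T (0, 1)).1 * (T (1, 0)).2 := by
    intro T
    rw [← LinearMap.det_toMatrix (Module.Basis.finTwoProd K), Matrix.det_fin_two]
    simp [LinearMap.toMatrix_apply]
  let mk : K → K → K → K → (K × K →ₗ[K] K × K) := fun p r u s =>
    { toFun := fun x => (p * x.1 + r * x.2, u * x.1 + s * x.2)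
      map_add' := fun x y => Prod.ext (by simp only [Prod.fst_add, Prod.snd_add]; ring)
        (by simp only [Prod.fst_add, Prod.snd_add]; ring)
      map_smul' := fun c x => Prod.ext
        (by simp only [Prod.smul_fst, Prod.smul_snd, smul_eq_mul, RingHom.id_apply]; ring)
        (by simp only [Prod.smul_fst, Prod.smul_snd, smul_eq_mul, RingHom.id_apply]; ring) }
  have hmk : ∀ p r u s x, mk p r u s x = (p * x.1 + r * x.2, u * x.1 + s * x.2) := fun _ _ _ _ _ => rfl
  have hiso : ∀ g ∈ M, ∀ x y, hermForm 6 F q (act g x) (act g y) = hermForm 6 F q x y := fun g hg => (UDec.mem_SUGL.mp (hMS hg)).1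
  have d : XS q τ Mf := by
    refine ⟨hF, hE, hr, htr, hnz, hq, ?_, ?_, ?_, ?_, ?_⟩
    · rintro T T' ⟨g, hg, hgf⟩ ⟨g', hg', hgf'⟩
      exact ⟨g * g', M.mul_mem hg hg', fun x => by rw [LinearMap.comp_apply, hgf', hgf, act_mul]⟩
    · rintro T ⟨g, hg, hgf⟩
      let G' : (K × K) →ₗ[F] (K × K) :=
        ιF.toLinearMap ∘ₗ Matrix.toLin' ((g⁻¹ : GL (Fin 6) F) : Matrix (Fin 6) (Fin 6) F) ∘ₗ ιF.symm.toLinearMap
      have hG' : ∀ x, G' (ι x) = ι (act g⁻¹ x) := fun x => by
        show ι (Matrix.toLin' _ (ι.symm (ι x))) = _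
        rw [ι.symm_apply_apply]; rfl
      refine ⟨G', ⟨g⁻¹, M.inv_mem hg, hG'⟩, LinearMap.ext fun z => ?_, LinearMap.ext fun z => ?_⟩
      · obtain ⟨x, rfl⟩ := ι.surjective z
        rw [LinearMap.comp_apply, hgf, hG', act_inv_act, LinearMap.id_apply]
      · obtain ⟨x, rfl⟩ := ι.surjective z
        rw [LinearMap.comp_apply, hG', hgf, act_act_inv, LinearMap.id_apply]
    · rintro T ⟨g, hg, hgf⟩ z w
      obtain ⟨x, rfl⟩ := ι.surjective z
      obtain ⟨y, rfl⟩ := ι.surjective w
      rw [hgf, hgf, hτι, hτι]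
      exact hiso g hg x y
    · intro p r u s hp hs hr' hu hdet
      have hr1 : r ^ q ^ 3 = -r := eq_neg_of_add_eq_zero_right hr'
      have hu1 : u ^ q ^ 3 = -u := eq_neg_of_add_eq_zero_right hu
      refine ⟨_, lift (mk p r u s) (fun x y => ?_) ?_, fun x => rfl⟩
      · simp only [hmk, pf, add_pow_q hE, mul_pow, hp, hs, hr1, hu1]
        linear_combination (x.1 * y.2 ^ q ^ 3 + x.2 * y.1 ^ q ^ 3) * hdet
      · rw [det2, hmk, hmk]
        simp [hdet]
    · intro y hy
      set a := y ^ (q + 1) with ha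
      have ha0 : a ≠ 0 := pow_ne_zero _ hy
      refine ⟨_, lift (mk a 0 0 (a ^ q ^ 3)⁻¹) (fun x z => ?_) ?_, fun x => ?_⟩
      · have h0 : (0 : K) ^ q ^ 3 = 0 := zero_pow (q_ne_zero hE)
        simp only [hmk, pf, zero_mul, add_zero, zero_add, mul_pow, inv_pow, pow_q_pow_q hE]
        field_simp
      · rw [det2, hmk, hmk]
        simp only [mul_one, mul_zero, add_zero, zero_add, sub_zero, zero_mul]
        have hconjn : Algebra.norm F (a ^ q ^ 3) = Algebra.norm F a ^ q := (algebraMap F K).injective (by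
          rw [hnorm_det, ← hσa, hconj, hnorm_det, mul_pow, mul_pow, pow_right_comm a (q ^ 2) (q ^ 3),
            pow_right_comm a (q ^ 4) (q ^ 3)])
        have hN : Algebra.norm F a ^ q = Algebra.norm F a := by
          rw [ha, map_pow, ← pow_mul, add_mul, one_mul, pow_add, pow_succ (Algebra.norm F y) q, ← pow_two,
            ← hF, FiniteField.pow_card, mul_comm]
        have hn0 : Algebra.norm F a ≠ 0 := Algebra.norm_ne_zero_iff.2 ha0
        rw [map_mul, Algebra.norm_inv, hconjn, hN, mul_inv_cancel₀ hn0]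
      · show mk a 0 0 (a ^ q ^ 3)⁻¹ x = _
        rw [hmk]; simp
  let G₀ : (K × K) →ₗ[F] (K × K) :=
    ιF.toLinearMap ∘ₗ Matrix.toLin' (g₀ : Matrix (Fin 6) (Fin 6) F) ∘ₗ ιF.symm.toLinearMap
  have hG₀ : ∀ x, G₀ (ι x) = ι (act g₀ x) := fun x => by
    show ι (Matrix.toLin' _ (ι.symm (ι x))) = _
    rw [ι.symm_apply_apply]; rfl
  have hne : ¬ ∀ c : K, ∃ a : K, ∀ z, G₀ (c • z) = a • G₀ z := fun hall' => hg₀N (hnorm g₀ fun c => by
    obtain ⟨a, ha⟩ := hall' c
    refine ⟨a, fun x => ι.injective ?_⟩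
    have := ha (ι x)
    rw [← map_smul ι c x, hG₀, hG₀] at this
    rw [this, map_smul])
  refine UDec.eq_of_ctr hF (by norm_num) hMS fun x hx => ⟨hx, fun c hc => ?_⟩
  obtain ⟨T, ⟨g, hg, hgf⟩, hfx⟩ := (d.ctr_all ⟨g₀, hg₀, hG₀⟩ hne (ι x) (by rw [hτι]; exact hx)).2 c hc
  have : g = utv x hx c := gl_ext fun y => ι.injective (by
    rw [← hgf, hfx, act_utv, map_add, hιF, hτι])
  exact this ▸ hg

end H81.SU6
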