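import Cfsg.Agent.H51.StabMaxU
import Cfsg.Prelude

/-!
# Stabilisers of small non-degenerate subspaces in SU_n, n at least 5
-/

set_option autoImplicit false
open Cfsg

namespace H81.SU6

theorem nondeg_max {F : Type*} [Field F] [Fintype F] {n q : ℕ} (hF : Fintype.card F = q ^ 2) (hn : 5 ≤ n) (W : Submodule F (Fin n → F)) (hW0 : W ≠ ⊥) (hW : Cfsg.Geo.IsNondegenerateOn (Cfsg.hermForm n F q) W) (hdim : 2 * Module.finrank F W < n) : Cfsg.Geo.IsMaximalIn (Cfsg.GU n F q ⊓ Cfsg.Geo.specialLinear (Fin n) F) (Cfsg.Geo.subspaceStabilizer W ⊓ (Cfsg.GU n F q ⊓ Cfsg.Geo.specialLinear (Fin n) F)) := by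
  refine H51.StabMax.nondeg_stab_maximal hF hn W hW0 (fun u hu h => ?_) hdim
  by_contra hne
  obtain ⟨x, hx, hux⟩ := (hW u hu hne).2
  exact hux (h x hx)

end H81.SU6
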